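import Cfsg.Agent.H1.J2Cover
import Cfsg.Agent.H413.JOneLocal
import Cfsg.Agent.Lib.FastPerm
import Cfsg.Agent.FastGrp
import Cfsg.Agent.Prune
set_option linter.all false
prune_inst 0x7f00000000000000000000000000000000000000000000000000000000000000000000000000000000000000000000000000000000000000000000000000000000000000000000000000000000000000003fffffffffffffffffffffffffffbeffbdffffffff
open scoped Cfsg.Agent.FastGrp

/-!
# Every element of the first Janko group is conjugate to its inverse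
-/

set_option autoImplicit false

namespace Cfsg.Agent.H1.J1Real

open Subgroup Cfsg.Agent.H1.RealTool
open Cfsg.Agent.SporadicB.J1.Mat Cfsg.Agent.SporadicB.J1.Data Cfsg.Agent.SporadicB.J1.Main
open Cfsg.Spor (J1)
open Cfsg.Agent.H413.JOneLocal

/-- the involution `(XY)^5` as a word -/
abbrev wu : List Nat := [0, 1, 0, 1, 0, 1, 0, 1, 0, 1]
/-- conjugates of it -/
abbrev w3 : List Nat := [0] ++ wu ++ [2]
abbrev w5 : List Nat := [0, 3] ++ wu ++ [1, 2]
abbrev w7 : List Nat := [0, 0] ++ wu ++ [2, 2]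
abbrev w11 : List Nat := [1, 0] ++ wu ++ [2, 3]
abbrev w19 : List Nat := [0, 0, 0] ++ wu ++ [2, 2, 2]
abbrev w15 : List Nat := [1, 1, 0, 0] ++ wu ++ [2, 2, 3, 3]

theorem sq_u : ev wu * ev wu = 1 := ((rep_ev _).mul (rep_ev _)).eq Rep.one (by decide +kernel)

/-- `u` times a second involution, of order `n` -/
theorem real_of_word (w : List Nat) (h : mulC (evC w) (evC w) = cI) : Rl (ev wu * ev w) :=
  Rl.of_mul sq_u (((rep_ev _).mul (rep_ev _)).eq Rep.one h)

theorem order_of_word {p : ℕ} (hp : p.Prime) (w : List Nat) (h : powC (mulC (evC wu) (evC w)) p cI = cI)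
    (h1 : diffC (mulC (evC wu) (evC w)) cI = true) : orderOf (ev wu * ev w) = p := by
  have := Fact.mk hp
  exact orderOf_eq_prime ((((rep_ev _).mul (rep_ev _)).pow p).eq Rep.one h)
    (((rep_ev _).mul (rep_ev _)).ne Rep.one h1)

theorem o3 : orderOf (ev wu * ev w3) = 3 := order_of_word (by norm_num) _ (by decide +kernel) (by decide +kernel)
theorem o5 : orderOf (ev wu * ev w5) = 5 := order_of_word (by norm_num) _ (by decide +kernel) (by decide +kernel)
theorem o7 : orderOf (ev wu * ev w7) = 7 := order_of_word (by norm_num) _ (by decide +kernel) (by decide +kernel)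
theorem o11 : orderOf (ev wu * ev w11) = 11 := order_of_word (by norm_num) _ (by decide +kernel) (by decide +kernel)
theorem o19 : orderOf (ev wu * ev w19) = 19 := order_of_word (by norm_num) _ (by decide +kernel) (by decide +kernel)

theorem o15 : orderOf (ev wu * ev w15) = 15 := by
  have h15 : (ev wu * ev w15) ^ 15 = 1 := (((rep_ev _).mul (rep_ev _)).pow 15).eq Rep.one (by decide +kernel)
  have h3 : (ev wu * ev w15) ^ 3 ≠ 1 := (((rep_ev _).mul (rep_ev _)).pow 3).ne Rep.one (by decide +kernel)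
  have h5 : (ev wu * ev w15) ^ 5 ≠ 1 := (((rep_ev _).mul (rep_ev _)).pow 5).ne Rep.one (by decide +kernel)
  have hd := orderOf_dvd_of_pow_eq_one h15
  have hn3 : ¬ orderOf (ev wu * ev w15) ∣ 3 := fun h => h3 (orderOf_dvd_iff_pow_eq_one.1 h)
  have hn5 : ¬ orderOf (ev wu * ev w15) ∣ 5 := fun h => h5 (orderOf_dvd_iff_pow_eq_one.1 h)
  generalize orderOf (ev wu * ev w15) = n at *
  have hle : n ≤ 15 := Nat.le_of_dvd (by norm_num) hd
  interval_cases n <;> first | rfl | (exfalso; revert hd hn3 hn5; decide)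

theorem r3 : Rl (ev wu * ev w3) := real_of_word _ (by decide +kernel)
theorem r5 : Rl (ev wu * ev w5) := real_of_word _ (by decide +kernel)
theorem r15 : Rl (ev wu * ev w15) := real_of_word _ (by decide +kernel)

theorem real_A5 : ∀ b : alternatingGroup (Fin 5), ∃ c : alternatingGroup (Fin 5), c * b * c⁻¹ = b⁻¹ := by
  (set_option synthInstance.maxSize 9000 in open scoped Cfsg.Agent.Lib.FastPerm in decide +kernel)

theorem real_prod (x : Multiplicative (ZMod 2) × alternatingGroup (Fin 5)) : Rl x := by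
  obtain ⟨a, b⟩ := x
  obtain ⟨c, hc⟩ := real_A5 b
  have h1 : ∀ a : Multiplicative (ZMod 2), a = a⁻¹ := by decide
  exact ⟨(1, c), Prod.ext (by simpa only [_root_.Prod.mk_mul_mk, _root_.one_mul, _root_.Prod.inv_mk, _root_.inv_one, _root_.mul_one] using h1 a) (by simpa only [_root_.Prod.mk_mul_mk, _root_.one_mul, _root_.Prod.inv_mk, _root_.inv_one, _root_.mul_one] using hc)⟩

theorem card_cent_three {x : J1} (hx : orderOf x = 3) : Nat.card (centralizer ({x} : Set J1)) = 30 :=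
  isLocal.cent3 x hx

theorem card_cent_five {x : J1} (hx : orderOf x = 5) : Nat.card (centralizer ({x} : Set J1)) = 30 :=
  isLocal.cent5 x hx

/-- an element commuting with an element of order 2, 3, 5 has order dividing 120 -/
theorem not_comm {p q : ℕ} (hp : p = 2 ∨ p = 3 ∨ p = 5) (hq : q = 7 ∨ q = 11 ∨ q = 19) {x y : J1}
    (hx : orderOf x = p) (hy : orderOf y = q) : ¬ y * x = x * y := by
  intro h
  have h1 : y ∈ centralizer ({x} : Set J1) := mem_centralizer_singleton_iff.2 h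
  have h2 := _root_.orderOf_dvd_natCard (⟨y, h1⟩ : centralizer ({x} : Set J1))
  rw [Subgroup.orderOf_mk, hy] at h2
  have h3 : q ∣ 120 := by
    rcases hp with rfl | rfl | rfl
    · rwa [card_cent hx] at h2
    · rw [card_cent_three hx] at h2; exact h2.trans (by norm_num)
    · rw [card_cent_five hx] at h2; exact h2.trans (by norm_num)
  rcases hq with rfl | rfl | rfl <;> norm_num at h3

theorem prime_cases {r : ℕ} (hr : r.Prime) (h : r ∣ 175560) : r = 2 ∨ r = 3 ∨ r = 5 ∨ r = 7 ∨ r = 11 ∨ r = 19 := by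
  have h1 : r ∣ 2 ^ 3 * (3 * (5 * (7 * (11 * 19)))) := by norm_num; exact h
  rcases hr.dvd_mul.1 h1 with h1 | h1
  · exact Or.inl ((Nat.prime_dvd_prime_iff_eq hr Nat.prime_two).1 (hr.dvd_of_dvd_pow h1))
  rcases hr.dvd_mul.1 h1 with h1 | h1
  · exact Or.inr (Or.inl ((Nat.prime_dvd_prime_iff_eq hr Nat.prime_three).1 h1))
  rcases hr.dvd_mul.1 h1 with h1 | h1
  · exact Or.inr (Or.inr (Or.inl ((Nat.prime_dvd_prime_iff_eq hr (by norm_num)).1 h1)))
  rcases hr.dvd_mul.1 h1 with h1 | h1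
  · exact Or.inr (Or.inr (Or.inr (Or.inl ((Nat.prime_dvd_prime_iff_eq hr (by norm_num)).1 h1))))
  rcases hr.dvd_mul.1 h1 with h1 | h1
  · exact Or.inr (Or.inr (Or.inr (Or.inr (Or.inl ((Nat.prime_dvd_prime_iff_eq hr (by norm_num)).1 h1)))))
  · exact Or.inr (Or.inr (Or.inr (Or.inr (Or.inr ((Nat.prime_dvd_prime_iff_eq hr (by norm_num)).1 h1)))))

/-- elements whose order is divisible by 7, 11 or 19 -/
theorem real_big {q : ℕ} (hq : q = 7 ∨ q = 11 ∨ q = 19) {g : J1} (hg : q ∣ orderOf g) : Rl g := by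
  have hqp : q.Prime := by rcases hq with rfl | rfl | rfl <;> norm_num
  -- an element of order `q` inverted by an involution
  obtain ⟨x, t, hx, ht, htx⟩ : ∃ x t : J1, orderOf x = q ∧ t * t = 1 ∧ t * x * t⁻¹ = x⁻¹ := by
    rcases hq with rfl | rfl | rfl
    · exact ⟨_, ev wu, o7, sq_u, conj_mul_of_sq sq_u (((rep_ev _).mul (rep_ev _)).eq Rep.one (by decide +kernel))⟩
    · exact ⟨_, ev wu, o11, sq_u, conj_mul_of_sq sq_u (((rep_ev _).mul (rep_ev _)).eq Rep.one (by decide +kernel))⟩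
    · exact ⟨_, ev wu, o19, sq_u, conj_mul_of_sq sq_u (((rep_ev _).mul (rep_ev _)).eq Rep.one (by decide +kernel))⟩
  have hsq : ¬ q ^ 2 ∣ Nat.card J1 := by
    rw [card_J1]
    rcases hq with rfl | rfl | rfl <;> norm_num
  obtain ⟨m, hm⟩ := hg
  have hn0 : orderOf g ≠ 0 := (orderOf_pos g).ne'
  have hm0 : m ≠ 0 := by rintro rfl; rw [mul_zero] at hm; exact hn0 hm
  have ha : orderOf (g ^ m) = q := by
    rw [orderOf_pow_of_dvd hm0 (by rw [hm]; exact dvd_mul_left _ _), hm, Nat.mul_div_cancel _ (Nat.pos_of_ne_zero hm0)]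
  obtain ⟨c, hc⟩ := exists_conj_mem_zpowers hqp hsq hx ha
  -- conjugate
  apply Rl.of_conj c
  set g1 := c * g * c⁻¹ with hg1
  have hc' : g1 ^ m ∈ zpowers x := by rw [hg1, conj_pow]; exact hc
  have hog1 : orderOf (g1 ^ m) = q := by
    rw [hg1, conj_pow, ← ha]; exact (MulAut.conj c).orderOf_eq (g ^ m)
  have hinv : t * g1 ^ m * t⁻¹ = (g1 ^ m)⁻¹ := by
    obtain ⟨k, hk⟩ := mem_zpowers_iff.1 hc'
    rw [← hk, ← conj_zpow, htx, inv_zpow]
  have htn : ¬ t * g1 ^ m = g1 ^ m * t := by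
    intro h
    have h1 : g1 ^ m = (g1 ^ m)⁻¹ := by rw [← hinv, h, mul_inv_cancel_right]
    have h2 : (g1 ^ m) ^ 2 = 1 := by rw [pow_two]; nth_rw 2 [h1]; rw [mul_inv_cancel]
    have h3 := orderOf_dvd_of_pow_eq_one h2
    rw [hog1] at h3
    rcases hq with rfl | rfl | rfl <;> norm_num at h3
  have ht1 : t ≠ 1 := by rintro rfl; exact htn (by rw [one_mul, mul_one])
  have hot : orderOf t = 2 := by
    rw [← pow_two] at ht
    exact orderOf_eq_prime ht ht1
  let H := centralizer ({g1 ^ m} : Set J1)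
  have hHn : ∀ h ∈ H, t * h * t⁻¹ ∈ H := by
    intro h hh
    rw [mem_centralizer_singleton_iff] at hh ⊢
    have h5 : t * (g1 ^ m)⁻¹ * t⁻¹ = g1 ^ m := by
      calc t * (g1 ^ m)⁻¹ * t⁻¹ = (t * g1 ^ m * t⁻¹)⁻¹ := by group
        _ = g1 ^ m := by rw [hinv, inv_inv]
    have h6 : h * (g1 ^ m)⁻¹ = (g1 ^ m)⁻¹ * h := (show Commute h (g1 ^ m) from hh).inv_right.eq
    calc t * h * t⁻¹ * g1 ^ m = t * h * t⁻¹ * (t * (g1 ^ m)⁻¹ * t⁻¹) := by rw [h5]
      _ = t * (h * (g1 ^ m)⁻¹) * t⁻¹ := by group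
      _ = t * ((g1 ^ m)⁻¹ * h) * t⁻¹ := by rw [h6]
      _ = (t * (g1 ^ m)⁻¹ * t⁻¹) * (t * h * t⁻¹) := by group
      _ = g1 ^ m * (t * h * t⁻¹) := by rw [h5]
  have hfix : ∀ h ∈ H, t * h = h * t → h = 1 := by
    intro h hh hth
    by_contra hne
    obtain ⟨r, hr, hd⟩ := Nat.exists_prime_and_dvd (n := orderOf h) (by rw [Ne, orderOf_eq_one_iff]; exact hne)
    obtain ⟨l, hl⟩ := hd
    have hl0 : l ≠ 0 := by rintro rfl; rw [mul_zero] at hl; exact (orderOf_pos h).ne' hl
    have ho : orderOf (h ^ l) = r := by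
      rw [orderOf_pow_of_dvd hl0 (by rw [hl]; exact dvd_mul_left _ _), hl,
        Nat.mul_div_cancel _ (Nat.pos_of_ne_zero hl0)]
    have hr' := prime_cases hr (by rw [← card_J1, ← ho]; exact _root_.orderOf_dvd_natCard _)
    have hcm0 : Commute h (g1 ^ m) := (mem_centralizer_singleton_iff.1 hh :)
    have hcm : Commute (g1 ^ m) (h ^ l) := hcm0.symm.pow_right l
    rcases hr' with rfl | rfl | rfl | rfl | rfl | rfl
    · exact not_comm (Or.inl rfl) hq ho hog1 hcm.eq
    · exact not_comm (Or.inr (Or.inl rfl)) hq ho hog1 hcm.eq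
    · exact not_comm (Or.inr (Or.inr rfl)) hq ho hog1 hcm.eq
    · exact not_comm (Or.inl rfl) (Or.inl rfl) hot ho ((show Commute t h from hth).symm.pow_left l).eq
    · exact not_comm (Or.inl rfl) (Or.inr (Or.inl rfl)) hot ho ((show Commute t h from hth).symm.pow_left l).eq
    · exact not_comm (Or.inl rfl) (Or.inr (Or.inr rfl)) hot ho ((show Commute t h from hth).symm.pow_left l).eq
  exact ⟨t, inv_of_fixed ht H hHn hfix (mem_centralizer_singleton_iff.2 ((Commute.refl g1).pow_right m).eq)⟩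

/-- elements of even order -/
theorem real_even {g : J1} (hg : 2 ∣ orderOf g) : Rl g := by
  obtain ⟨m, hm⟩ := hg
  have hm0 : m ≠ 0 := by rintro rfl; rw [mul_zero] at hm; exact (orderOf_pos g).ne' hm
  have ha : orderOf (g ^ m) = 2 := by
    rw [orderOf_pow_of_dvd hm0 (by rw [hm]; exact dvd_mul_left _ _), hm, Nat.mul_div_cancel _ (Nat.pos_of_ne_zero hm0)]
  obtain ⟨e⟩ := isLocal.cent _ ha
  have h1 : g ∈ centralizer ({g ^ m} : Set J1) := mem_centralizer_singleton_iff.2 ((Commute.refl g).pow_right m).eq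
  have h2 := (real_prod (e ⟨g, h1⟩)).map ((centralizer ({g ^ m} : Set J1)).subtype.comp e.symm.toMonoidHom)
  have h3 : ((centralizer ({g ^ m} : Set J1)).subtype.comp e.symm.toMonoidHom) (e ⟨g, h1⟩) = g := by
    rw [MonoidHom.comp_apply, MulEquiv.toMonoidHom_eq_coe, MonoidHom.coe_coe, e.symm_apply_apply]; rfl
  rwa [h3] at h2

theorem odd_cases {n : ℕ} (hd : n ∣ 175560) (h2 : ¬ 2 ∣ n) (h7 : ¬ 7 ∣ n) (h11 : ¬ 11 ∣ n) (h19 : ¬ 19 ∣ n) :
    n = 1 ∨ n = 3 ∨ n = 5 ∨ n = 15 := by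
  have c2 : Nat.Coprime n 2 := ((Nat.Prime.coprime_iff_not_dvd (by norm_num)).2 h2).symm
  have c7 : Nat.Coprime n 7 := ((Nat.Prime.coprime_iff_not_dvd (by norm_num)).2 h7).symm
  have c11 : Nat.Coprime n 11 := ((Nat.Prime.coprime_iff_not_dvd (by norm_num)).2 h11).symm
  have c19 : Nat.Coprime n 19 := ((Nat.Prime.coprime_iff_not_dvd (by norm_num)).2 h19).symm
  have hc : Nat.Coprime n (2 ^ 3 * (7 * (11 * 19))) :=
    (c2.pow_right 3).mul_right (c7.mul_right (c11.mul_right c19))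
  have h15 : n ∣ 15 := hc.dvd_of_dvd_mul_right (m := 15) (by norm_num; exact hd)
  have hle : n ≤ 15 := Nat.le_of_dvd (by norm_num) h15
  interval_cases n <;> revert h15 <;> decide

/-- **every element of `J₁` is real** -/
theorem real (g : J1) : Rl g := by
  by_cases h2 : 2 ∣ orderOf g
  · exact real_even h2
  by_cases h7 : 7 ∣ orderOf g
  · exact real_big (Or.inl rfl) h7
  by_cases h11 : 11 ∣ orderOf g
  · exact real_big (Or.inr (Or.inl rfl)) h11
  by_cases h19 : 19 ∣ orderOf g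
  · exact real_big (Or.inr (Or.inr rfl)) h19
  have hd : orderOf g ∣ 175560 := by rw [← card_J1]; exact _root_.orderOf_dvd_natCard g
  have c3 : ¬ 3 ^ 2 ∣ Nat.card J1 := by rw [card_J1]; norm_num
  have c5 : ¬ 5 ^ 2 ∣ Nat.card J1 := by rw [card_J1]; norm_num
  rcases odd_cases hd h2 h7 h11 h19 with h | h | h | h
  · rw [orderOf_eq_one_iff] at h
    rw [h]; exact Rl.one
  · exact Rl.of_prime (by norm_num) c3 o3 h r3
  · exact Rl.of_prime (by norm_num) c5 o5 h r5
  · exact Rl.of_mul_prime (p := 3) (q := 5) (by norm_num) (by norm_num) (by norm_num) c3 c5 o15 h r15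

end Cfsg.Agent.H1.J1Real
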