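import Mathlib
import Cfsg.Agent.H1.RankTwo_m3
import Cfsg.Agent.BiChar.TwDFour
import Cfsg.Agent.S0802
import Cfsg.Agent.ClassicalGeometry.PSL2Solvable
import Cfsg.Agent.Prune
set_option linter.all false
prune_inst 0x7f00000000000000000000000000000000000000000000000000000000000000000000000000000000000000000000000000000000000000000000000000000000000000000000000000000000000000003fffffffffffffffffffffffffffbeffbdffffffff
open scoped Cfsg.Agent.FastGrp

/-!
# `G₂(q)`, `³D₄(q)`, `q` even: `ℒ(G, T)` (helper1)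
-/

set_option autoImplicit false
set_option linter.unusedSectionVars false

namespace Cfsg.Agent.H1.RowExc

open Cfsg Cfsg.Lie
open CoxeterSystem Cfsg.Agent.ChevalleyStructure.CoxeterGeom Cfsg.Agent.Tits.Roots Cfsg.Agent.Tits.Core
  Cfsg.Agent.Tits.RootComb Cfsg.Agent.Tits.Exchange Cfsg.Agent.Nodes.Reps Cfsg.Agent.Nodes.BNOf
  Cfsg.Agent.Nodes.StabComb Cfsg.Agent.Nodes.Bruhat Cfsg.Agent.Nodes.OppDec Cfsg.Agent.Nodes.LeviDec
  Cfsg.Agent.KFacts.RgdBorelTits Cfsg.Agent.KFacts.RgdFilt Cfsg.Agent.H1.Over Cfsg.Agent.H1.RgdRow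
  Cfsg.Agent.H1.RankTwo
open scoped commutatorElement

universe u v w

section sltwo

variable (F : Type w) [Field F] [Fintype F] [CharP F 2]

/-- `SL₂(F) ≃ L₂(F)` in characteristic 2 -/
noncomputable def slEquiv : Matrix.SpecialLinearGroup (Fin 2) F ≃* Matrix.ProjectiveSpecialLinearGroup (Fin 2) F :=
  ((QuotientGroup.quotientMulEquivOfEq (S0802.center_eq_bot (F := F))).trans QuotientGroup.quotientBot).symm

theorem simple_sl (h4 : 4 ≤ Fintype.card F) : IsSimpleGroup (Matrix.SpecialLinearGroup (Fin 2) F) := by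
  have h1 : IsSimpleGroup (Matrix.ProjectiveSpecialLinearGroup (Fin 2) F) :=
    Matrix.ProjectiveSpecialLinearGroup.rank_two_simple (by rw [Nat.card_eq_fintype_card]; omega)
  exact (MulEquiv.isSimpleGroup_congr (slEquiv F)).2 h1

theorem not_comm_sl (h4 : 4 ≤ Fintype.card F) : ¬ IsMulCommutative (Matrix.SpecialLinearGroup (Fin 2) F) := by
  intro h
  have h1 : Group.IsSolvable (Matrix.SpecialLinearGroup (Fin 2) F) := Group.isSolvable_of_comm h.is_comm.comm
  have h2 : Group.IsSolvable (Matrix.ProjectiveSpecialLinearGroup (Fin 2) F) :=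
    Group.isSolvable_of_surjective (f := (slEquiv F).toMonoidHom) (slEquiv F).surjective
  exact Cfsg.Agent.ClassicalGeometry.PSL2Solvable.not_isSolvable_psl F (by omega) h2

theorem card_eq_two (h4 : Fintype.card F < 4) : Fintype.card F = 2 := by
  obtain ⟨n, -, hn⟩ := FiniteField.card F 2
  have h1 : (n : ℕ) < 2 := by
    by_contra h2
    have : 2 ^ 2 ≤ 2 ^ (n : ℕ) := Nat.pow_le_pow_right (by norm_num) (not_lt.1 h2)
    omega
  have h2 : (n : ℕ) = 1 := le_antisymm (Nat.lt_succ_iff.1 h1) n.2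
  rw [hn, h2, pow_one]

theorem solvable_sl (h4 : Fintype.card F < 4) : Group.IsSolvable (Matrix.SpecialLinearGroup (Fin 2) F) := by
  have h1 : Nat.card (Matrix.SpecialLinearGroup (Fin 2) F) = 6 := by
    rw [Cfsg.Agent.ClassicalGeometry.PSL2Basic.card_SL2, card_eq_two F h4]
    norm_num
  have h2 : IsZGroup (Matrix.SpecialLinearGroup (Fin 2) F) := by
    apply IsZGroup.of_squarefree
    rw [h1, show 6 = 2 * 3 from rfl, Nat.squarefree_mul (by norm_num)]
    exact ⟨Nat.prime_two.squarefree, Nat.prime_three.squarefree⟩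
  infer_instance

end sltwo

section node

variable {W : Type*} [Group W] {M : CoxeterMatrix (Fin 2)} {cs : CoxeterSystem M W} {A : Fin 2 → Fin 2 → ℤ}
  {h : IsCartan M A} {Y : Type v} [Group Y] {T : Subgroup Y} {n : Fin 2 → Y} {X : (Fin 2 → ℤ) → Subgroup Y}
  {R : RGD cs h 2 T n X} {Φ : (Fin 2 → ℤ) → ℝ → Subgroup Y}

theorem LJ_single_le (i : Fin 2) : LJ cs h T X {i} = T ⊔ (X (sr i) ⊔ X (-sr i)) := by
  rw [← Sup_single (cs := cs) (h := h)]
  rfl

theorem T_le_normalizer (R : RGD cs h 2 T n X) (i : Fin 2) :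
    T ≤ Subgroup.normalizer ((X (sr i) ⊔ X (-sr i) : Subgroup Y) : Set Y) := by
  intro t ht
  rw [mem_normalizer_iff_cj, cj_sup]
  have h1 := R.tor _ (isRoot_sr cs h i) t ht
  have h2 := R.tor _ (isRoot_sr cs h i).neg t ht
  rw [h1, h2]

theorem solvable_LJ (R : RGD cs h 2 T n X) (hT : Group.IsSolvable T) (i : Fin 2) {Q : Type*} [Group Q]
    (hQ : Group.IsSolvable Q) (φ : Q →* Y) (hφ : φ.range = X (sr i) ⊔ X (-sr i)) :
    Group.IsSolvable ↥(LJ cs h T X {i}) := by
  rw [LJ_single_le]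
  refine isSolvable_sup hT ?_ (T_le_normalizer R i)
  rw [← hφ]
  exact Group.isSolvable_of_surjective (f := φ.rangeRestrict) φ.rangeRestrict_surjective

/-- **Lie rank two, both `⟨X_i, X_{-i}⟩` are images of `SL₂`** -/
theorem rowL_sl [Finite W] [Finite Y] (hF : Filt R Φ) (hG : Nodes.RGDLib.G1 cs h X = ⊤) (hT : Group.IsSolvable T)
    {F : Fin 2 → Type w} [∀ i, Field (F i)] [∀ i, Fintype (F i)] [∀ i, CharP (F i) 2]
    (φ : ∀ i, Matrix.SpecialLinearGroup (Fin 2) (F i) →* Y) (hφ : ∀ i, (φ i).range = X (sr i) ⊔ X (-sr i)) :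
    RowL (fun i => Matrix.SpecialLinearGroup (Fin 2) (F i)) Y := by
  have hfin : ∀ i, Finite (Matrix.SpecialLinearGroup (Fin 2) (F i)) := fun i => inferInstance
  refine rowL_two hF hG hT fun i => ?_
  by_cases h4 : 4 ≤ Fintype.card (F i)
  · exact Or.inr ⟨simple_sl (F i) h4, not_comm_sl (F i) h4, φ i, hφ i⟩
  · exact Or.inl (solvable_LJ R hT i (solvable_sl (F i) (not_le.1 h4)) (φ i) (hφ i))

end node

section GTwo

open Cfsg.Agent.Nodes.RGDChev Cfsg.Agent.BiChar.RankPar Cfsg.Agent.BiChar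
open Cfsg.Agent.BiChar.GTwo (range_psi)
open Cfsg.Agent.ChevalleyStructure Cfsg.Agent.ChevalleyStructure.Elts Cfsg.Agent.ChevalleyStructure.NPerm Cfsg.Agent.Nodes.RGDFoldSL

variable {K : Type} [Field K] [Fintype K] [CharP K 2]

theorem range_chev (i : Fin 2) : ∃ φ : Matrix.SpecialLinearGroup (Fin 2) K →* ↥(chevG2.group K),
    φ.range = (XV chevG2 2 K (sr i)).subgroupOf (chevG2.group K) ⊔
      (XV chevG2 2 K (-sr i)).subgroupOf (chevG2.group K) := by
  have hp : IsType chevG2 2 CoxeterMatrix.G₂ := GTwo.isType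
  have hs : ∀ j : Fin 2, chevG2.simple j < chevG2.nroots := fun j =>
    simple_lt hp.inList (lt_rank hp j)
  have hle : ∀ j : Fin 2, chevG2.rootSubgroup K (chevG2.simple j) ⊔ chevG2.rootSubgroup K (chevG2.neg (chevG2.simple j)) ≤
      chevG2.group K := by
    intro j
    rw [← XV_sr hp, ← XV_neg_sr hp]
    exact sup_le (XV_le_group hp _) (XV_le_group hp _)
  refine ⟨(psi hp.inList K (chevG2.simple i)).codRestrict (chevG2.group K) fun g => hle i (psi_mem hp.inList (hs i) g), ?_⟩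
  rw [← Subgroup.subgroupOf_sup (XV_le_group hp _) (XV_le_group hp _), XV_sr hp, XV_neg_sr hp,
    ← range_psi hp (hs i)]
  ext g
  rw [Subgroup.mem_subgroupOf]
  constructor
  · rintro ⟨x, rfl⟩
    exact ⟨x, rfl⟩
  · rintro ⟨x, hx⟩
    exact ⟨x, Subtype.ext hx⟩

theorem solvable_diag : Group.IsSolvable ↥((chevG2.diagonalSubgroup K).subgroupOf (chevG2.group K)) := by
  refine Group.isSolvable_of_comm fun a b => ?_
  apply Subtype.ext
  apply Subtype.ext
  exact ChevalleyStructure.HDiag.mul_comm_of_mem chevG2 (by simp) (Subgroup.mem_subgroupOf.1 a.2) (Subgroup.mem_subgroupOf.1 b.2)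

theorem rowL_chevG2 : RowL (fun _ : Fin 2 => Matrix.SpecialLinearGroup (Fin 2) K) ↥(chevG2.group K) := by
  have : Finite CoxeterMatrix.G₂.Group := finite_W GTwo.isType CoxeterMatrix.G₂.toCoxeterSystem
  choose φ hφ using range_chev (K := K)
  exact rowL_sl (F := fun _ => K) (Cfsg.Agent.KFacts.RgdFiltChev.filt (K := K) GTwo.isType CoxeterMatrix.G₂.toCoxeterSystem 2)
    (G1_eq_top GTwo.isType CoxeterMatrix.G₂.toCoxeterSystem) solvable_diag φ hφ

/-- **row `G₂(q)`, `q` even** -/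
theorem row_gTwo {G : Type v} [Group G] [Finite G] (e : G ≃* ↥(chevG2.group K)) :
    RowL (fun _ : Fin 2 => Matrix.SpecialLinearGroup (Fin 2) K) G :=
  RowL.congr e rowL_chevG2

end GTwo

section TwDFour

open Cfsg.Agent.Nodes.RGDChev Cfsg.Agent.BiChar.RankPar Cfsg.Agent.BiChar
open Cfsg.Agent.ChevalleyStructure Cfsg.Agent.Nodes.RGDFoldSL

variable {K : Type} [Field K] [Fintype K] [CharP K 2] {q : ℕ}

theorem solvable_T : Group.IsSolvable ↥(Nodes.RGDTwD4.T K q) := by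
  refine Group.isSolvable_of_comm fun x y => ?_
  have hx' : ((x : ↥(twistedD4 K q)) : GL chevD4.Idx K) ∈ chevD4.diagonalSubgroup K :=
    (Subgroup.mem_inf.1 (Subgroup.mem_subgroupOf.1 x.2)).1
  have hy' : ((y : ↥(twistedD4 K q)) : GL chevD4.Idx K) ∈ chevD4.diagonalSubgroup K :=
    (Subgroup.mem_inf.1 (Subgroup.mem_subgroupOf.1 y.2)).1
  apply Subtype.ext
  apply Subtype.ext
  exact ChevalleyStructure.HDiag.mul_comm_of_mem chevD4 (by simp) hx' hy'

theorem card_Fx_one {φ : K →+* K} (hφ : ∀ x, φ x = x ^ q) (hq : IsPrimePow q) (hK : Fintype.card K = q ^ 3) :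
    Nat.card (Fx φ 1) = q := by
  have e : {b : Kˣ // φ b = b} ≃ (Fx φ 1)ˣ :=
    { toFun := fun b => Units.mk0 ⟨b.1, mem_Fx.2 b.2⟩ (fun h => b.1.ne_zero (congrArg Subtype.val h))
      invFun := fun b => ⟨Units.mk0 (b : Fx φ 1).1 (fun h => b.ne_zero (Subtype.ext h)), mem_Fx.1 (b : Fx φ 1).2⟩
      left_inv := fun b => by ext; rfl
      right_inv := fun b => by ext; rfl }
  have h1 := D4H1.card_fixed hq.one_lt hK hφ
  rw [Nat.card_congr e, Nat.card_units] at h1
  have h2 : 0 < Nat.card (Fx φ 1) := Nat.card_pos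
  have h3 := hq.one_lt
  omega

theorem card_Fx_three {φ : K →+* K} (hφ : ∀ x, φ x = x ^ q) (hK : Fintype.card K = q ^ 3) :
    Nat.card (Fx φ 3) = q ^ 3 := by
  have h1 : Fx φ 3 = ⊤ := by
    rw [eq_top_iff]
    exact fun t _ => TwDFour.mem_Fx_three hK hφ t
  rw [h1, ← hK, ← Nat.card_eq_fintype_card]
  exact Nat.card_congr Subfield.topEquiv.toEquiv

theorem rowL_twD4 (hq : IsPrimePow q) (hK : Fintype.card K = q ^ 3) :
    ∃ (F : Fin 2 → Type) (_ : ∀ i, Field (F i)) (_ : ∀ i, Fintype (F i)) (_ : ∀ i, CharP (F i) 2),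
      (∀ i, Fintype.card (F i) = q ∨ Fintype.card (F i) = q ^ 3) ∧
      RowL (fun i : Fin 2 => Matrix.SpecialLinearGroup (Fin 2) (F i)) ↥(twistedD4 K q) := by
  obtain ⟨φ, hφ⟩ := D4Fixed.exists_frob hq hK
  have hle := D4Fixed.twisted_le_fix hK hφ
  have : Finite CoxeterMatrix.G₂.Group := Nodes.RGDChev.finite_W GTwo.isType TwDFour.cs
  have hfin : ∀ i : Fin 2, Finite (Fx φ ((Nodes.RGDTwNode.D4.rest i).length + 1)) := fun i => inferInstance
  have hch : ∀ i : Fin 2, CharP (Fx φ ((Nodes.RGDTwNode.D4.rest i).length + 1)) 2 := fun i =>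
    (RingHom.charP_iff _ (Fx φ ((Nodes.RGDTwNode.D4.rest i).length + 1)).subtype.injective 2).2 inferInstance
  let hft : ∀ i : Fin 2, Fintype (Fx φ ((Nodes.RGDTwNode.D4.rest i).length + 1)) := fun i => Fintype.ofFinite _
  refine ⟨fun i => Fx φ ((Nodes.RGDTwNode.D4.rest i).length + 1), fun i => inferInstance, hft, hch, ?_, ?_⟩
  · intro i
    rw [← Nat.card_eq_fintype_card]
    fin_cases i
    · exact Or.inl (card_Fx_one hφ hq hK)
    · exact Or.inr (card_Fx_three hφ hK)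
  · exact rowL_sl (F := fun i => Fx φ ((Nodes.RGDTwNode.D4.rest i).length + 1))
      (Cfsg.Agent.KFacts.RgdFiltTwAll.filt_fold TwDFour.cs Nodes.RGDTwD4.isCartan Nodes.RGDTwD4.foldData
      (Nodes.RGDTwD4.foldGrp hφ hle) 2) (Nodes.RGDTwD4.G1_eq_top TwDFour.cs hK hφ) solvable_T
      (fun i => TwDFour.Ph hφ hle i) (fun i => TwDFour.range_Ph hφ hle hK i)

/-- **row `³D₄(q)`, `q` even** -/
theorem row_twD4 {G : Type v} [Group G] [Finite G] (hq : IsPrimePow q) (hK : Fintype.card K = q ^ 3)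
    (e : G ≃* ↥(twistedD4 K q)) :
    ∃ (F : Fin 2 → Type) (_ : ∀ i, Field (F i)) (_ : ∀ i, Fintype (F i)) (_ : ∀ i, CharP (F i) 2),
      (∀ i, Fintype.card (F i) = q ∨ Fintype.card (F i) = q ^ 3) ∧
      RowL (fun i : Fin 2 => Matrix.SpecialLinearGroup (Fin 2) (F i)) G := by
  obtain ⟨F, _, _, _, hc, h⟩ := rowL_twD4 hq hK
  exact ⟨F, inferInstance, inferInstance, inferInstance, hc, RowL.congr e h⟩

end TwDFour

end Cfsg.Agent.H1.RowExc
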