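import Mathlib
import Cfsg.Agent.KFacts.Mult.WittZ
import Cfsg.Agent.KFacts.Mult.WittA
import Cfsg.Agent.Nodes.RGDTypeA
import Cfsg.Agent.H1.RowExc
import Cfsg.Agent.KFacts.RgdFiltClass
import Cfsg.Agent.H631.TorusCent
import Cfsg.Agent.FastGrp
import Cfsg.Agent.Prune
set_option linter.all false

section
prune_inst 0x7f00000000000000000000000000000000000000000000000000000000000000000000000000000000000000000000000000000000000000000000000000000000000000000000000000000000000000003fffffffffffffffffffffffffffbeffbdffffffff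

-- part: H1/WittPerf
section
set_option linter.all false
open scoped Cfsg.Agent.FastGrp

/-!
# Witt frames of index 2, characteristic 2, at least 4 fixed scalars: perfectness (helper1)

`N i = ⟨rg (sr i), rg (-sr i)⟩` and `D i = ⟨U, rg (-sr i)⟩` are perfect.
-/

set_option autoImplicit false
set_option linter.unusedSectionVars false

namespace Cfsg.Agent.H1.WittPerf

open Cfsg.Agent.ChevalleyStructure.CoxeterGeom Cfsg.Agent.Tits.Roots Cfsg.Agent.Nodes.TypeC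
open Cfsg.Agent.Nodes.Comb Cfsg.Agent.Nodes.Reps Cfsg.Agent.Nodes.WittRoot Cfsg.Agent.Nodes.BNOf
open Cfsg.Agent.TitsThree Cfsg.Agent.TitsThree.Siegel Cfsg.Agent.TitsThree.WittFrame Cfsg.Agent.TitsThree.WittWeyl
open Cfsg.Agent.Nodes.WittRGD (Tor nn)
open Cfsg.Agent.Nodes.WittAll (AmbT)
open Cfsg.Agent.KFacts.Mult.WittW Cfsg.Agent.KFacts.Mult.WittT
open scoped commutatorElement

section free

variable {Y : Type*} [Group Y]

/-- a subgroup on which an element of `D` acts fixed point freely lies in `⁅D, D⁆` -/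
theorem le_comm_of_free {D V : Subgroup Y} [Finite V] {t : Y} (ht : t ∈ D) (hV : V ≤ D)
    (hn : ∀ v ∈ V, t * v * t⁻¹ ∈ V) (hf : ∀ v ∈ V, t * v * t⁻¹ = v → v = 1) : V ≤ ⁅D, D⁆ := by
  let f : V → V := fun v => ⟨t * v.1 * t⁻¹ * (v.1)⁻¹, mul_mem (hn _ v.2) (inv_mem v.2)⟩
  have hinj : Function.Injective f := by
    rintro ⟨v, hv⟩ ⟨w, hw⟩ hvw
    have h1 : t * v * t⁻¹ * v⁻¹ = t * w * t⁻¹ * w⁻¹ := congrArg Subtype.val hvw
    have h2 : t * (w⁻¹ * v) * t⁻¹ = w⁻¹ * v := by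
      have e1 : t * (w⁻¹ * v) * t⁻¹ = t * w⁻¹ * t⁻¹ * (t * v * t⁻¹ * v⁻¹) * v := by group
      rw [e1, h1]; group
    have h3 := hf _ (mul_mem (inv_mem hw) hv) h2
    exact Subtype.ext (inv_mul_eq_one.1 h3).symm
  intro v hv
  obtain ⟨w, hw⟩ := Finite.surjective_of_injective hinj ⟨v, hv⟩
  have h1 : t * w.1 * t⁻¹ * (w.1)⁻¹ = v := congrArg Subtype.val hw
  rw [← h1]
  exact Subgroup.commutator_mem_commutator ht (hV w.2)

/-- `⁅D, D⁆` contains the conjugates under `D` of its subgroups -/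
theorem conj_le_comm {D V : Subgroup Y} {g : Y} (hg : g ∈ D) (hV : V ≤ ⁅D, D⁆) : cj g V ≤ ⁅D, D⁆ := by
  intro x hx
  rw [mem_cj] at hx
  have h1 := hV hx
  have h2 : g * (g⁻¹ * x * g) * g⁻¹ = x := by group
  rw [← h2]
  have h3 : D ≤ Subgroup.normalizer ((⁅D, D⁆ : Subgroup Y) : Set Y) := by
    intro d hd
    rw [mem_normalizer_iff_cj]
    unfold cj
    rw [Subgroup.map_commutator]
    have : D.map (MulAut.conj d).toMonoidHom = D := cj_eq_of_mem hd
    rw [this]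
  exact (Subgroup.mem_normalizer_iff.1 (h3 hg) _).1 h1

end free

section eig

variable {F : Type*} [Field F] {V : Type*} [AddCommGroup V] [Module F V] {H : HForm F V} {n : ℕ}
  {Fr : Frame H (Fin n)}

/-- the element of `⟨X x y, X (-y) (-x)⟩` with eigenvalue `t` on `b x`, `b y` -/
noncomputable def hX (Fr : Frame H (Fin n)) (x y : Fin n × Bool) (t : F) : V ≃ₗ[F] V :=
  nX Fr x y t * (nX Fr x y 1)⁻¹

theorem inv_apply_of {g : V ≃ₗ[F] V} {v w : V} {c : F} (hc : c ≠ 0) (h : g v = c • w) : g⁻¹ w = c⁻¹ • v := by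
  have h1 : g⁻¹ (g v) = v := by
    rw [← mul_apply', inv_mul_cancel]; rfl
  rw [h, map_smul] at h1
  rw [← h1, smul_smul, inv_mul_cancel₀ hc, one_smul]

theorem eig_hX {x y : Fin n × Bool} (hxy : x.1 ≠ y.1) {t : F} (ht : t ≠ 0) (hσ : H.σ t = t) :
    Eig Fr (hX Fr x y t) (fun z => if z = x ∨ z = y then t else if z = neg x ∨ z = neg y then t⁻¹ else 1) := by
  have hε := H.ε_ne
  have hx := Fr.η_ne x
  have hy := Fr.η_ne y
  have hc : H.ε⁻¹ * Fr.η x * Fr.η y ≠ 0 := mul_ne_zero (mul_ne_zero (inv_ne_zero hε) hx) hy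
  have key : ∀ z : Fin n × Bool, z.1 = x.1 → z = x ∨ z = neg x := by
    rintro ⟨a, s⟩ h
    obtain ⟨b, u⟩ := x
    simp only at h
    subst h
    cases s <;> cases u <;> simp [neg]
  have key' : ∀ z : Fin n × Bool, z.1 = y.1 → z = y ∨ z = neg y := by
    rintro ⟨a, s⟩ h
    obtain ⟨b, u⟩ := y
    simp only at h
    subst h
    cases s <;> cases u <;> simp [neg]
  have nn1 : ∀ z : Fin n × Bool, neg z ≠ z := fun z => (ne_neg_self z).symm
  refine ⟨HForm.IsIso.mul H (isIso_nX Fr _ _ _) (HForm.IsIso.inv H (isIso_nX Fr _ _ _)), ?_, ?_, ?_⟩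
  · intro z
    by_cases h1 : z.1 = x.1
    · rcases key z h1 with rfl | rfl
      · rw [if_pos (Or.inl rfl)]
        have e1 := nX_apply_neg Fr hxy (one_ne_zero (α := F))
        have e2 := inv_apply_of (one_ne_zero (α := F)) e1
        rw [hX, mul_apply', e2, map_smul, nX_apply_neg Fr hxy ht, inv_one, one_smul]
      · have h2 : ¬ (neg x = x ∨ neg x = y) := by
          rintro (h | h)
          · exact nn1 x h
          · exact hxy (by rw [← h]; rfl)
        rw [if_neg h2, if_pos (Or.inl rfl)]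
        have e1 := nX_apply_self' Fr hxy (one_ne_zero (α := F))
        have hc1 : H.ε⁻¹ * Fr.η x * Fr.η y * H.σ 1 ≠ 0 := by rw [map_one, mul_one]; exact hc
        have e2 := inv_apply_of (inv_ne_zero hc1) e1
        rw [hX, mul_apply', e2, map_smul, nX_apply_self' Fr hxy ht, smul_smul, hσ, map_one]
        congr 1
        field_simp
    · by_cases h2 : z.1 = y.1
      · rcases key' z h2 with rfl | rfl
        · rw [if_pos (Or.inr rfl)]
          have e1 : nX Fr x z 1 (Fr.b (neg x)) = (-(H.ε⁻¹ * Fr.η x * Fr.η z * H.σ 1)) • Fr.b z := by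
            rw [nX_apply_neg' Fr hxy one_ne_zero, neg_smul]
          have hc1 : -(H.ε⁻¹ * Fr.η x * Fr.η z * H.σ 1) ≠ 0 := by
            rw [map_one, mul_one]; exact neg_ne_zero.2 hc
          have e2 := inv_apply_of hc1 e1
          rw [hX, mul_apply', e2, map_smul, nX_apply_neg' Fr hxy ht, ← neg_smul, smul_smul, hσ, map_one]
          congr 1
          field_simp
        · have h3 : ¬ (neg y = x ∨ neg y = y) := by
            rintro (h | h)
            · exact hxy (by rw [← h]; rfl)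
            · exact nn1 y h
          rw [if_neg h3, if_pos (Or.inr rfl)]
          have e1 : nX Fr x y 1 (Fr.b x) = (-(1 : F)⁻¹) • Fr.b (neg y) := by
            rw [nX_apply_self Fr hxy one_ne_zero, neg_smul]
          have e2 := inv_apply_of (by simp) e1
          rw [hX, mul_apply', e2, map_smul, nX_apply_self Fr hxy ht, ← neg_smul, smul_smul]
          congr 1
          simp
      · have h3 : ¬ (z = x ∨ z = y) := by
          rintro (h | h)
          · exact h1 (by rw [h])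
          · exact h2 (by rw [h])
        have h4 : ¬ (z = neg x ∨ z = neg y) := by
          rintro (h | h)
          · exact h1 (by rw [h]; rfl)
          · exact h2 (by rw [h]; rfl)
        rw [if_neg h3, if_neg h4]
        have e1 : nX Fr x y 1 (Fr.b z) = (1 : F) • Fr.b z := by rw [nX_apply_of_ne Fr hxy h1 h2, one_smul]
        have e2 := inv_apply_of (one_ne_zero (α := F)) e1
        rw [hX, mul_apply', e2, map_smul, nX_apply_of_ne Fr hxy h1 h2, inv_one]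
  · intro z
    split_ifs
    · exact hσ
    · rw [map_inv₀, hσ]
    · exact map_one _
  · intro w hw
    have e1 : nX Fr x y 1 w = (1 : F) • w := by rw [nX_apply_V0 Fr hxy hw, one_smul]
    have e2 := inv_apply_of (one_ne_zero (α := F)) e1
    rw [hX, mul_apply', e2, map_smul, nX_apply_V0 Fr hxy hw, inv_one, one_smul]

/-- in characteristic 2 the square of a scalar `≠ 1` is `≠ 1` -/
theorem sq_ne [CharP F 2] {t : F} (h1 : t ≠ 1) : t * t ≠ 1 := by
  intro h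
  apply h1
  have h2 : (t - 1) * (t - 1) = 0 := by
    have h3 : (2 : F) = 0 := CharTwo.two_eq_zero
    linear_combination h - (t - 1) * h3
  exact sub_eq_zero.1 (mul_self_eq_zero.1 h2)

theorem smul_eq_self [CharP F 2] {l : F} (h0 : H.σ l = l) (h1 : l ≠ 1) {p : Fr.Adm} (h : Frame.Adm.smul l p = p) :
    p = 1 := by
  have hw : l • p.w = p.w := by rw [← Frame.Adm.smul_w, h]
  have hc : l * H.σ l * p.c = p.c := by rw [← Frame.Adm.smul_c, h]
  have hw' : p.w = 0 := by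
    have : (l - 1) • p.w = 0 := by rw [sub_smul, hw, one_smul, sub_self]
    exact (smul_eq_zero.1 this).resolve_left (sub_ne_zero.2 h1)
  have hc' : p.c = 0 := by
    have : (l * l - 1) * p.c = 0 := by rw [h0] at hc; rw [sub_mul, hc, one_mul, sub_self]
    exact (mul_eq_zero.1 this).resolve_left (sub_ne_zero.2 (sq_ne h1))
  exact Frame.Adm.ext (by rw [hw']; rfl) (by rw [hc']; rfl)

variable [Finite V] [CharP F 2]

theorem XG_le_comm {D : Subgroup (V ≃ₗ[F] V)} {g : V ≃ₗ[F] V} {m : Fin n × Bool → F} (hE : Eig Fr g m) (hg : g ∈ D)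
    {x y : Fin n × Bool} (hxy : x.1 ≠ y.1) (hV : XG Fr x y ≤ D) (h1 : m x * m y ≠ 1) : XG Fr x y ≤ ⁅D, D⁆ := by
  have : Finite (V ≃ₗ[F] V) := Finite.of_injective (fun g : V ≃ₗ[F] V => (g : V → V)) DFunLike.coe_injective
  refine le_comm_of_free hg hV ?_ ?_
  · rintro _ ⟨t, rfl⟩
    exact ⟨_, (hE.conj_X hxy t)⟩
  · rintro _ ⟨t, rfl⟩ h
    rw [hE.conj_X hxy] at h
    have h2 := X_inj hxy h
    have h3 : t = 0 := by
      have : (m x * m y - 1) * t = 0 := by rw [sub_mul, h2, one_mul, sub_self]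
      exact (mul_eq_zero.1 this).resolve_left (sub_ne_zero.2 h1)
    rw [h3, Fr.X_zero]

theorem ZG_le_comm {D : Subgroup (V ≃ₗ[F] V)} {g : V ≃ₗ[F] V} {m : Fin n × Bool → F} (hE : Eig Fr g m) (hg : g ∈ D)
    {x : Fin n × Bool} (hV : ZG Fr x ≤ D) (h1 : m x ≠ 1) : ZG Fr x ≤ ⁅D, D⁆ := by
  have : Finite (V ≃ₗ[F] V) := Finite.of_injective (fun g : V ≃ₗ[F] V => (g : V → V)) DFunLike.coe_injective
  refine le_comm_of_free hg hV ?_ ?_
  · rintro _ ⟨t, rfl⟩
    exact ⟨_, (hE.conj_Z x t)⟩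
  · rintro _ ⟨t, rfl⟩ h
    rw [hE.conj_Z] at h
    have h2 := Z_inj h
    rw [smul_eq_self (hE.fix x) h1 h2, Fr.Z_one]

end eig

section two

variable {F : Type*} [Field F] {V : Type*} [AddCommGroup V] [Module F V] {H : HForm F V}
  {Fr : Frame H (Fin 2)}

abbrev p0 : Fin 2 × Bool := (0, true)
abbrev p1 : Fin 2 × Bool := (1, true)
abbrev n0 : Fin 2 × Bool := (0, false)
abbrev n1 : Fin 2 × Bool := (1, false)

theorem rg_sr_zero : rg Fr (sr 0) = XG Fr p0 n1 := by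
  rw [Cfsg.Agent.Nodes.WittRGD.rg_sr]
  exact PG_ne Fr (a := p0) (b := n1) (by decide)

theorem rg_sr_one : rg Fr (sr 1) = ZG Fr p1 := by
  rw [Cfsg.Agent.Nodes.WittRGD.rg_sr]
  exact PG_self Fr p1

theorem rg_neg_sr_zero : rg Fr (-sr 0) = XG Fr p1 n0 := by
  rw [Cfsg.Agent.Nodes.WittRGD.rg_neg_sr]
  change PG Fr n0 p1 = _
  rw [PG_ne Fr (a := n0) (b := p1) (by decide), XG_swap Fr (a := n0) (b := p1) (by decide)]

theorem rg_neg_sr_one : rg Fr (-sr 1) = ZG Fr n1 := by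
  rw [Cfsg.Agent.Nodes.WittRGD.rg_neg_sr]
  exact PG_self Fr n1

/-- the four positive roots -/
theorem pos_cases {W : Type*} [Group W] (cs : CoxeterSystem (CoxeterMatrix.B 2) W) {x : Fin 2 → ℤ}
    (hx : IsRoot cs (isCartan 2) x) (h0 : 0 ≤ x) :
    rg Fr x = XG Fr p0 n1 ∨ rg Fr x = ZG Fr p1 ∨ rg Fr x = XG Fr p0 p1 ∨ rg Fr x = ZG Fr p0 := by
  obtain ⟨a, b, hab, e⟩ := exists_of_isRoot cs hx
  have e0 : ee x 0 = x 0 := by
    simp [ee, Fin.sum_univ_two, bt_apply]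
  have e1 : ee x 1 = 2 * x 1 - x 0 := by
    simp [ee, Fin.sum_univ_two, bt_apply]
    ring
  have h00 : 0 ≤ x 0 := h0 0
  have h01 : 0 ≤ x 1 := h0 1
  rw [e] at e0 e1
  rw [Pi.add_apply, wt_apply, wt_apply] at e0 e1
  rw [rg_eq Fr hab e]
  obtain ⟨a, s⟩ := a
  obtain ⟨b, u⟩ := b
  fin_cases a <;> fin_cases b <;> cases s <;> cases u <;> simp at e0 e1 <;>
    [(exfalso; omega); (exfalso; revert hab; unfold Ok; simp; done); (exfalso; revert hab; unfold Ok; simp; done);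
     exact Or.inr (Or.inr (Or.inr (PG_self Fr p0))); (exfalso; omega); (exfalso; omega); (exact Or.inl (PG_ne Fr (a := p0) (b := n1) (by decide)));
     (exact Or.inr (Or.inr (Or.inl (PG_ne Fr (a := p0) (b := p1) (by decide))))); (exfalso; omega);
     (exact Or.inl ((PG_ne Fr (a := n1) (b := p0) (by decide)).trans (XG_swap Fr (by decide)))); (exfalso; omega);
     (exact Or.inr (Or.inr (Or.inl ((PG_ne Fr (a := p1) (b := p0) (by decide)).trans (XG_swap Fr (by decide)))))); (exfalso; omega);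
     (exfalso; revert hab; unfold Ok; simp; done); (exfalso; revert hab; unfold Ok; simp; done); exact Or.inr (Or.inl (PG_self Fr p1))]

variable [Finite V] [CharP F 2]

theorem hX_mem {D : Subgroup (V ≃ₗ[F] V)} (h1 : XG Fr p0 n1 ≤ D) (h2 : XG Fr p1 n0 ≤ D) (t : F) :
    hX Fr p0 n1 t ∈ D := by
  have key : ∀ t, nX Fr p0 n1 t ∈ D := fun t =>
    mul_mem (mul_mem (h1 ⟨_, rfl⟩) (h2 ⟨_, rfl⟩)) (h1 ⟨_, rfl⟩)
  exact mul_mem (key t) (inv_mem (key 1))

/-- node 0: the root groups `±(e₀ - e₁)` -/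
theorem zero_self {D : Subgroup (V ≃ₗ[F] V)} (h1 : XG Fr p0 n1 ≤ D) (h2 : XG Fr p1 n0 ≤ D) {t : F} (ht : t ≠ 0)
    (ht1 : t ≠ 1) (hσ : H.σ t = t) : XG Fr p0 n1 ≤ ⁅D, D⁆ ∧ XG Fr p1 n0 ≤ ⁅D, D⁆ := by
  have hE := eig_hX (Fr := Fr) (x := p0) (y := n1) (by decide) ht hσ
  have hg := hX_mem h1 h2 t
  refine ⟨XG_le_comm hE hg (by decide) h1 ?_, XG_le_comm hE hg (by decide) h2 ?_⟩
  · rw [if_pos (Or.inl rfl), if_pos (Or.inr rfl)]
    exact sq_ne ht1
  · rw [if_neg (by decide), if_pos (by decide), if_neg (by decide), if_pos (by decide)]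
    exact sq_ne (inv_ne_one.2 ht1)

/-- node 0: everything -/
theorem zero_all {D : Subgroup (V ≃ₗ[F] V)} (h1 : XG Fr p0 n1 ≤ D) (h2 : XG Fr p1 n0 ≤ D) (h3 : ZG Fr p1 ≤ D)
    (h4 : XG Fr p0 p1 ≤ D) (h5 : ZG Fr p0 ≤ D) {t : F} (ht : t ≠ 0) (ht1 : t ≠ 1) (hσ : H.σ t = t)
    {q : Fr.Adm} (hq : q.c ≠ 0) :
    ZG Fr p1 ≤ ⁅D, D⁆ ∧ XG Fr p0 p1 ≤ ⁅D, D⁆ ∧ ZG Fr p0 ≤ ⁅D, D⁆ := by
  have hE := eig_hX (Fr := Fr) (x := p0) (y := n1) (by decide) ht hσ
  have hg := hX_mem h1 h2 t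
  have k1 : ZG Fr p1 ≤ ⁅D, D⁆ := by
    refine ZG_le_comm hE hg h3 ?_
    rw [if_neg (by decide), if_pos (by decide)]
    exact inv_ne_one.2 ht1
  have k2 : ZG Fr p0 ≤ ⁅D, D⁆ := by
    refine ZG_le_comm hE hg h5 ?_
    rw [if_pos (Or.inl rfl)]
    exact ht1
  refine ⟨k1, ?_, k2⟩
  rintro _ ⟨u, rfl⟩
  have hσq : H.σ q.c ≠ 0 := by simpa using hq
  have hc : -(H.ε⁻¹ * Fr.η p1 * H.σ q.c) ≠ 0 :=
    neg_ne_zero.2 (mul_ne_zero (mul_ne_zero (inv_ne_zero H.ε_ne) (Fr.η_ne _)) hσq)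
  have e := Cfsg.Agent.KFacts.Mult.WittZ.comm_X_Z (Fr := Fr) (x := p0) (y := p1) (by decide)
    ((-(H.ε⁻¹ * Fr.η p1 * H.σ q.c))⁻¹ * u) q
  have e2 : -(H.ε⁻¹ * Fr.η p1 * H.σ q.c * ((-(H.ε⁻¹ * Fr.η p1 * H.σ q.c))⁻¹ * u)) = u := by
    rw [← mul_assoc, ← neg_mul, ← neg_mul, mul_inv_cancel₀ (by simpa using hc), one_mul]
  rw [e2] at e
  have e3 : Fr.X p0 p1 u = (Fr.Z p0 (Frame.Adm.smul (H.σ ((-(H.ε⁻¹ * Fr.η p1 * H.σ q.c))⁻¹ * u)) q))⁻¹ *
      ⁅Fr.X p0 (neg p1) ((-(H.ε⁻¹ * Fr.η p1 * H.σ q.c))⁻¹ * u), Fr.Z p1 q⁆ := by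
    rw [e]; group
  rw [e3]
  exact mul_mem (inv_mem (k2 ⟨_, rfl⟩)) (Subgroup.commutator_mem_commutator (h1 ⟨_, rfl⟩) (h3 ⟨_, rfl⟩))

/-- node 1: the root groups `±2e₁` -/
theorem one_self {G0 : Subgroup (V ≃ₗ[F] V)} (hA : AmbT Fr 2 G0) {D : Subgroup (V ≃ₗ[F] V)} (h1 : ZG Fr p1 ≤ D)
    (h2 : ZG Fr n1 ≤ D) {q : Fr.Adm} (hq : q.c ≠ 0) {a : F} (ha : a ≠ 0) (ha1 : a * H.σ a ≠ 1) :
    ∃ g ∈ D, ∃ m : Fin 2 × Bool → F, Eig Fr g m ∧ m p1 = a * H.σ a ∧ m n1 = (a * H.σ a)⁻¹ ∧ m p0 = 1 ∧ m n0 = 1 := by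
  have hσ : H.σ (a * H.σ a) = a * H.σ a := by rw [map_mul, H.σσ, mul_comm]
  have hE := eig_ts (Cfsg.Agent.KFacts.Mult.WittA.torT_of_ambT hA hq) hq hA.V0 1 ha rfl hσ
  have key : ∀ p : Fr.Adm, nZ Fr p1 p ∈ D := fun p =>
    mul_mem (mul_mem (h1 ⟨_, rfl⟩) (h2 ⟨_, rfl⟩)) (h1 ⟨_, rfl⟩)
  refine ⟨_, mul_mem (key _) (inv_mem (key _)), _, hE, ?_, ?_, ?_, ?_⟩
  · exact if_pos rfl
  · rw [if_neg (by decide), if_pos rfl]
  · rw [if_neg (by decide), if_neg (by decide)]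
  · rw [if_neg (by decide), if_neg (by decide)]

theorem one_comm {G0 : Subgroup (V ≃ₗ[F] V)} (hA : AmbT Fr 2 G0) {D : Subgroup (V ≃ₗ[F] V)} (h1 : ZG Fr p1 ≤ D)
    (h2 : ZG Fr n1 ≤ D) {q : Fr.Adm} (hq : q.c ≠ 0) {a : F} (ha : a ≠ 0) (ha1 : a * H.σ a ≠ 1) :
    ZG Fr p1 ≤ ⁅D, D⁆ ∧ ZG Fr n1 ≤ ⁅D, D⁆ := by
  obtain ⟨g, hg, m, hE, e1, e2, -, -⟩ := one_self hA h1 h2 hq ha ha1
  exact ⟨ZG_le_comm hE hg h1 (by rw [e1]; exact ha1), ZG_le_comm hE hg h2 (by rw [e2]; exact inv_ne_one.2 ha1)⟩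

theorem one_all {G0 : Subgroup (V ≃ₗ[F] V)} (hA : AmbT Fr 2 G0) {D : Subgroup (V ≃ₗ[F] V)} (h1 : ZG Fr p1 ≤ D)
    (h2 : ZG Fr n1 ≤ D) (h3 : XG Fr p0 n1 ≤ D) (h4 : XG Fr p0 p1 ≤ D) {q : Fr.Adm} (hq : q.c ≠ 0) {a : F}
    (ha : a ≠ 0) (ha1 : a * H.σ a ≠ 1) :
    XG Fr p0 n1 ≤ ⁅D, D⁆ ∧ XG Fr p0 p1 ≤ ⁅D, D⁆ ∧ ZG Fr p0 ≤ ⁅D, D⁆ := by
  obtain ⟨g, hg, m, hE, e1, e2, e3, -⟩ := one_self hA h1 h2 hq ha ha1
  have k1 : XG Fr p0 n1 ≤ ⁅D, D⁆ := XG_le_comm hE hg (by decide) h3 (by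
    rw [e2, e3, one_mul]; exact inv_ne_one.2 ha1)
  have k2 : XG Fr p0 p1 ≤ ⁅D, D⁆ := XG_le_comm hE hg (by decide) h4 (by rw [e1, e3, one_mul]; exact ha1)
  refine ⟨k1, k2, ?_⟩
  rintro _ ⟨p, rfl⟩
  have e := Cfsg.Agent.KFacts.Mult.WittZ.comm_X_Z (Fr := Fr) (x := p0) (y := p1) (by decide) 1 p
  rw [map_one, Frame.Adm.one_smul] at e
  have e4 : Fr.Z p0 p = ⁅Fr.X p0 (neg p1) 1, Fr.Z p1 p⁆ * (Fr.X p0 p1 (-(H.ε⁻¹ * Fr.η p1 * H.σ p.c * 1)))⁻¹ := by
    rw [e]; group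
  rw [e4]
  exact mul_mem (Subgroup.commutator_mem_commutator (h3 ⟨_, rfl⟩) (h1 ⟨_, rfl⟩)) (inv_mem (k2 ⟨_, rfl⟩))

end two

end Cfsg.Agent.H1.WittPerf

private theorem dce_1a5e2d3dc367 : _root_.True := by
  try have : _root_.True := by simp only [_root_.Cfsg.Agent.H1.WittPerf.hX.eq_1]
  exact _root_.True.intro
end

-- part: H1/RowPSL
section
set_option linter.all false
open scoped Cfsg.Agent.FastGrp

-- part: H1/EmbSL
section
/-!
# Block embeddings `SL_κ(F) → SL_ι(F)` (helper1)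

* `emb f` for an embedding `f : κ ↪ ι`; `emb_tv`, `range_emb`, `emb_injective`.
-/

set_option autoImplicit false
set_option linter.unusedSectionVars false

namespace Cfsg.Agent.H1.EmbSL

open Matrix Cfsg.Agent.Nodes.RGDTypeA Cfsg.Agent.TitsThree.KSideA Cfsg.Agent.LieClassical.SLGen

variable {ι κ F : Type*} [Field F] [DecidableEq ι] [Fintype ι] [DecidableEq κ] [Fintype κ]

/-- the decomposition of `ι` -/
noncomputable def dec (f : κ ↪ ι) : κ ⊕ {x : ι // x ∉ Set.range f} ≃ ι :=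
  ((Equiv.ofInjective f f.injective).sumCongr (Equiv.refl _)).trans (Equiv.Set.sumCompl (Set.range f))

theorem dec_inl (f : κ ↪ ι) (a : κ) : dec f (Sum.inl a) = f a := rfl

open Classical in
/-- the block embedding -/
noncomputable def emb (f : κ ↪ ι) : SpecialLinearGroup κ F →* SpecialLinearGroup ι F where
  toFun g := ⟨Matrix.reindex (dec f) (dec f) (Matrix.fromBlocks g.1 0 0 1), by
    rw [Matrix.det_reindex_self, Matrix.det_fromBlocks_zero₂₁, g.2, Matrix.det_one, one_mul]⟩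
  map_one' := by
    apply Subtype.ext
    change Matrix.reindex (dec f) (dec f) (Matrix.fromBlocks (1 : Matrix κ κ F) 0 0 1) = 1
    rw [Matrix.fromBlocks_one, Matrix.reindex_apply, Matrix.submatrix_one_equiv]
  map_mul' g k := by
    apply Subtype.ext
    change Matrix.reindex (dec f) (dec f) (Matrix.fromBlocks (g.1 * k.1) 0 0 1) =
      Matrix.reindex (dec f) (dec f) (Matrix.fromBlocks g.1 0 0 1) *
        Matrix.reindex (dec f) (dec f) (Matrix.fromBlocks k.1 0 0 1)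
    rw [Matrix.reindex_apply, Matrix.reindex_apply, Matrix.reindex_apply, Matrix.submatrix_mul_equiv,
      Matrix.fromBlocks_multiply]
    simp

theorem emb_injective (f : κ ↪ ι) : Function.Injective (emb (F := F) f) := by
  intro g k h
  have h1 : Matrix.reindex (dec f) (dec f) (Matrix.fromBlocks g.1 0 0 1) =
      Matrix.reindex (dec f) (dec f) (Matrix.fromBlocks k.1 0 0 1) := congrArg Subtype.val h
  have h2 := (Matrix.reindex (dec f) (dec f)).injective h1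
  exact Subtype.ext (Matrix.fromBlocks_inj.1 h2).1

theorem emb_tv (f : κ ↪ ι) {a b : κ} (hab : a ≠ b) (t : F) : emb f (tv a b t) = tv (f a) (f b) t := by
  classical
  apply Subtype.ext
  change Matrix.reindex (dec f) (dec f) (Matrix.fromBlocks (tv a b t).1 0 0 1) = _
  rw [tv_val hab, tv_val (fun h => hab (f.injective h))]
  ext i j
  obtain ⟨i, rfl⟩ := (dec f).surjective i
  obtain ⟨j, rfl⟩ := (dec f).surjective j
  rw [Matrix.reindex_apply, Matrix.submatrix_apply, Equiv.symm_apply_apply, Equiv.symm_apply_apply,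
    Matrix.add_apply]
  have h1 : (1 : Matrix ι ι F) (dec f i) (dec f j) = (1 : Matrix (κ ⊕ {x : ι // x ∉ Set.range f}) _ F) i j := by
    rw [Matrix.one_apply, Matrix.one_apply]
    simp only [(dec f).injective.eq_iff]
  have h2 : Matrix.single (f a) (f b) t (dec f i) (dec f j) = Matrix.single (Sum.inl a) (Sum.inl b) t i j := by
    rw [Matrix.single_apply, Matrix.single_apply, ← dec_inl, ← dec_inl]
    simp only [(dec f).injective.eq_iff]
  rw [h1, h2, ← Matrix.fromBlocks_one]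
  rcases i with i | i <;> rcases j with j | j
  · simp [Matrix.single_apply]
  · simp
  · simp
  · simp

theorem range_emb [Nontrivial κ] (f : κ ↪ ι) :
    (emb (F := F) f).range = ⨆ p : {p : κ × κ // p.1 ≠ p.2}, XX F (f p.1.1) (f p.1.2) := by
  rw [MonoidHom.range_eq_map, ← closure_transvections (ι := κ) (F := F), MonoidHom.map_closure]
  apply le_antisymm
  · rw [Subgroup.closure_le]
    rintro _ ⟨_, ⟨a, b, hab, t, rfl⟩, rfl⟩
    rw [← tv_of_ne hab, emb_tv f hab]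
    exact Subgroup.mem_iSup_of_mem (S := fun p : {p : κ × κ // p.1 ≠ p.2} => XX F (f p.1.1) (f p.1.2))
      ⟨(a, b), hab⟩ (tv_mem_XX _ _ _)
  · refine iSup_le ?_
    rintro ⟨⟨a, b⟩, hab⟩ _ ⟨t, rfl⟩
    refine Subgroup.subset_closure ⟨tv a b t, ⟨a, b, hab, t, tv_of_ne hab t⟩, emb_tv f hab t⟩

end Cfsg.Agent.H1.EmbSL
end

-- part: H1/RowPSL
section
/-!
# `L₃(q)`, `q` even, and `L₅(2)`: `ℒ(G, T)` (helper1)
-/

set_option autoImplicit false
set_option linter.unusedSectionVars false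

namespace Cfsg.Agent.H1.RowPSL

open Cfsg Matrix
open CoxeterSystem Cfsg.Agent.ChevalleyStructure.CoxeterGeom Cfsg.Agent.Tits.Roots Cfsg.Agent.Tits.Core
  Cfsg.Agent.Tits.RootComb Cfsg.Agent.Tits.Exchange Cfsg.Agent.Nodes.Reps Cfsg.Agent.Nodes.BNOf
  Cfsg.Agent.Nodes.StabComb Cfsg.Agent.Nodes.Bruhat Cfsg.Agent.Nodes.OppDec Cfsg.Agent.Nodes.LeviDec
  Cfsg.Agent.KFacts.RgdBorelTits Cfsg.Agent.KFacts.RgdFilt Cfsg.Agent.KFacts.RgdFiltWitt Cfsg.Agent.H1.Over Cfsg.Agent.H1.RgdRow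
  Cfsg.Agent.H1.RankTwo Cfsg.Agent.H1.RowExc Cfsg.Agent.H1.EmbSL
open Cfsg.Agent.Nodes.RGDTypeA Cfsg.Agent.TitsThree.KSideA Cfsg.Agent.LieClassical.SLGen
open Cfsg.Agent.LieRecognition.BNCox (cA)

universe u v w

variable {F : Type w} [Field F] [Fintype F] [CharP F 2]

theorem mul_comm_T {n : ℕ} {g k : SpecialLinearGroup (Fin (n + 1)) F} (hg : g ∈ T (Fin (n + 1)) F)
    (hk : k ∈ T (Fin (n + 1)) F) : g * k = k * g := by
  have h1 : ∀ {g : SpecialLinearGroup (Fin (n + 1)) F}, g ∈ T (Fin (n + 1)) F → g.1 = Matrix.diagonal fun i => g.1 i i := by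
    intro g hg
    ext a b
    rw [Matrix.diagonal_apply]
    split_ifs with h
    · rw [h]
    · by_contra h2
      exact h (mem_T.1 hg a b h2)
  apply Subtype.ext
  change g.1 * k.1 = k.1 * g.1
  rw [h1 hg, h1 hk, Matrix.diagonal_mul_diagonal, Matrix.diagonal_mul_diagonal]
  congr 1
  funext i
  exact mul_comm _ _

theorem solvable_T (n : ℕ) : Group.IsSolvable ↥((T (Fin (n + 1)) F).map (pr n F)) := by
  have h1 : Group.IsSolvable ↥(T (Fin (n + 1)) F) :=
    Group.isSolvable_of_comm fun a b => Subtype.ext (mul_comm_T a.2 b.2)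
  exact Group.isSolvable_of_surjective (f := (pr n F).subgroupMap (T (Fin (n + 1)) F))
    ((pr n F).subgroupMap_surjective _)

/-- the block of the indices `i, i + 1` -/
def pairEmb {n : ℕ} (i : Fin n) : Fin 2 ↪ Fin (n + 1) where
  toFun := ![i.castSucc, i.succ]
  inj' := by
    intro a b h
    fin_cases a <;> fin_cases b
    · rfl
    · exact absurd h (Fin.castSucc_lt_succ).ne
    · exact absurd h (Fin.castSucc_lt_succ).ne'
    · rfl

theorem range_pair {n : ℕ} (i : Fin n) :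
    ((pr n F).comp (emb (pairEmb i))).range = (X F (sr i)).map (pr n F) ⊔ (X F (-sr i)).map (pr n F) := by
  rw [MonoidHom.range_comp, range_emb, ← Subgroup.map_sup, X_sr, X_neg_sr]
  congr 1
  apply le_antisymm
  · refine iSup_le ?_
    rintro ⟨⟨a, b⟩, hab⟩
    fin_cases a <;> fin_cases b
    · exact absurd rfl hab
    · exact le_sup_left
    · exact le_sup_right
    · exact absurd rfl hab
  · refine sup_le ?_ ?_
    · exact le_iSup (fun p : {p : Fin 2 × Fin 2 // p.1 ≠ p.2} => XX F (pairEmb i p.1.1) (pairEmb i p.1.2))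
        ⟨(0, 1), by decide⟩
    · exact le_iSup (fun p : {p : Fin 2 × Fin 2 // p.1 ≠ p.2} => XX F (pairEmb i p.1.1) (pairEmb i p.1.2))
        ⟨(1, 0), by decide⟩

theorem exists_filt (n : ℕ) : ∃ Φ : (Fin n → ℤ) → ℝ → Subgroup (ProjectiveSpecialLinearGroup (Fin (n + 1)) F),
    Finite (cA n).Group ∧
    ∃ R : RGD (cA n).toCoxeterSystem (Nodes.RootsA.isCartan n) 2 ((T (Fin (n + 1)) F).map (pr n F))
      (fun i => pr n F (ns n F i)) (fun x => (X F x).map (pr n F)), Filt R Φ := by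
  have h2 : Fact (Nat.Prime 2) := ⟨Nat.prime_two⟩
  have hc : ∀ i j : Fin n, cA n i j ≤ 3 := by
    intro i j
    rw [Cfsg.Agent.LieRecognition.BNCox.cA_apply]
    show (if (i : ℕ) = j then 1 else if (i : ℕ) + 1 = j ∨ (j : ℕ) + 1 = i then 3 else 2) ≤ 3
    split_ifs <;> norm_num
  have hW : Finite (cA n).Group :=
    Nodes.RootsA.finite_W (cA n).toCoxeterSystem (Nodes.RootsA.isCartan n)
  exact ⟨_, hW, Nodes.RGDTypeA.rgd_psl _ _,
    (intComm_of_sl (Nodes.RGDTypeA.rgd_psl (cA n).toCoxeterSystem (Nodes.RootsA.isCartan n))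
      (sl_of_ne (fun i j h => by have := hc i j; omega) (fun i j h => by have := hc i j; omega))).filt⟩

theorem rowL_psl_three : RowL (fun _ : Fin 2 => SpecialLinearGroup (Fin 2) F) (ProjectiveSpecialLinearGroup (Fin 3) F) := by
  obtain ⟨Φ, _, R, hF⟩ := exists_filt (F := F) 2
  have : Finite (ProjectiveSpecialLinearGroup (Fin (2 + 1)) F) := Quotient.finite _
  exact rowL_sl (F := fun _ => F) hF (Nodes.RGDTypeA.G1_psl_eq_top _ _) (solvable_T 2)
    (fun i => (pr 2 F).comp (emb (pairEmb i))) (fun i => range_pair i)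

/-- **row `L₃(q)`, `q` even** -/
theorem row_psl_three {G : Type v} [Group G] [Finite G] (e : G ≃* ProjectiveSpecialLinearGroup (Fin 3) F) :
    RowL (fun _ : Fin 2 => SpecialLinearGroup (Fin 2) F) G :=
  RowL.congr e rowL_psl_three

end Cfsg.Agent.H1.RowPSL
end
end

-- part: H1/QsNode
section
set_option linter.all false
open scoped Cfsg.Agent.FastGrp

/-!
# Nodes with a quasisimple `⟨X_i, X_{-i}⟩` (helper1)

* `nodeD_qs` : if the root groups lie in the commutator group of `N = ⟨X_i, X_{-i}⟩`, then `N` is quasisimple, `O₂(N) = 1`;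
* `RowT` : every member of `ℒ(G, T)` contains `T`; `rowT_of_rgd`.
-/

set_option autoImplicit false
set_option linter.unusedSectionVars false

namespace Cfsg.Agent.H1.QsNode

open CoxeterSystem Cfsg.Agent.ChevalleyStructure.CoxeterGeom Cfsg.Agent.Tits.Roots Cfsg.Agent.Tits.Core
  Cfsg.Agent.Tits.RootComb Cfsg.Agent.Tits.Exchange Cfsg.Agent.Nodes.Reps Cfsg.Agent.Nodes.BNOf
  Cfsg.Agent.Nodes.StabComb Cfsg.Agent.Nodes.Bruhat Cfsg.Agent.Nodes.OppDec Cfsg.Agent.Nodes.LeviDec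
  Cfsg.Agent.KFacts.RgdBorelTits Cfsg.Agent.KFacts.RgdFilt Cfsg.Agent.H1.Over Cfsg.Agent.H1.RgdRow
  Cfsg.Agent.H1.RankTwo Cfsg.Agent.H1.RowExc Cfsg.Agent.GenExc Cfsg.Agent.Nodes.Sub
open scoped commutatorElement

universe u v w

variable {I W Y : Type*} [Fintype I] [DecidableEq I] [Group W] [Group Y] {M : CoxeterMatrix I}
  {cs : CoxeterSystem M W} {A : I → I → ℤ} {h : IsCartan M A} {T : Subgroup Y} {n : I → Y}
  {X : (I → ℤ) → Subgroup Y}

/-- the inclusion of one node -/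
def one (i : I) : Unit ↪ I := ⟨fun _ => i, fun _ _ _ => rfl⟩

theorem HL_one (i : I) : HL cs h X (one i) = X (sr i) ⊔ X (-sr i) := by
  rw [← Sup_single (cs := cs) (h := h)]
  unfold HL
  congr 1
  ext x
  constructor
  · rintro ⟨h1, h2⟩
    exact ⟨h1, fun k hk => h2 k fun _ he => hk he.symm⟩
  · rintro ⟨h1, h2⟩
    exact ⟨h1, fun k hk => h2 k fun he => hk () he.symm⟩

/-- **the node `i` is quasisimple** -/
theorem isQuasisimple_node [Finite W] [Finite Y] (R : RGD cs h 2 T n X) (hT : Group.IsSolvable T) (i : I)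
    (hn : n i ∈ X (sr i) ⊔ X (-sr i))
    (h1 : X (sr i) ≤ ⁅X (sr i) ⊔ X (-sr i), X (sr i) ⊔ X (-sr i)⁆)
    (h2 : X (-sr i) ≤ ⁅X (sr i) ⊔ X (-sr i), X (sr i) ⊔ X (-sr i)⁆) :
    Cfsg.IsQuasisimple ↥(X (sr i) ⊔ X (-sr i)) ∧ pCore 2 ↥(X (sr i) ⊔ X (-sr i)) = ⊥ := by
  have h2p : Fact (Nat.Prime 2) := ⟨Nat.prime_two⟩
  have hfin : Finite (leviMatrix (one i) M).Group := finite_WL (cs := cs) (h := h) (one i)
  have hn' : ∀ j, n ((one i) j) ∈ HL cs h X (one i) := fun _ => by rw [HL_one]; exact hn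
  have hperf : commutator ↥(HL cs h X (one i)) = ⊤ := by
    refine perfect_HL (one i) fun x hx => ?_
    rw [HL_one]
    have hx' : x ∈ RootsJ cs h {i} := ⟨hx.1, fun k hk => hx.2 k fun _ he => hk he.symm⟩
    rcases rootsJ_single i hx' with rfl | rfl
    · exact h1
    · exact h2
  have hconn : ∀ J : Set Unit, J.Nonempty → J ≠ Set.univ → ∃ a ∈ J, ∃ b, b ∉ J ∧ (leviMatrix (one i) M) a b ≠ 2 := by
    rintro J ⟨x, hx⟩ hJ
    exact (hJ (Set.eq_univ_iff_forall.2 fun y => hx)).elim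
  have hTs : Group.IsSolvable ↥(T.subgroupOf (HL cs h X (one i))) := by
    let g : ↥(T.subgroupOf (HL cs h X (one i))) →* T :=
      { toFun := fun x => ⟨x.1.1, Subgroup.mem_subgroupOf.1 x.2⟩
        map_one' := rfl
        map_mul' := fun _ _ => rfl }
    have hinj : Function.Injective g := by
      intro a b hab
      have h3 : (g a : Y) = (g b : Y) := congrArg (fun z : T => (z : Y)) hab
      exact Subtype.ext (Subtype.ext h3)
    exact Group.isSolvable_of_isSolvable_injective hinj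
  have hR := rgd_HL (one i) R hn'
  have hqs : Cfsg.IsQuasisimple ↥(HL cs h X (one i)) :=
    Cfsg.Agent.UGT.U2.FOne.QsRGD.isQuasisimple_of_rgd hR (G1_HL_top (one i)) hconn hTs hperf
  have hcen := center_le_T hR (G1_HL_top (one i)) hconn hTs hperf
  have hcore : pCore 2 ↥(HL cs h X (one i)) = ⊥ := by
    have hp := Lib.Cores.pCore_isPGroup (G := ↥(HL cs h X (one i))) 2
    rcases Lib.ComponentSolvable.quasisimple_normal_cases hqs (Lib.Cores.pCore_normal (G := ↥(HL cs h X (one i))) 2) with h3 | h3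
    · exfalso
      rw [h3] at hp
      have h4 : Group.IsSolvable (⊤ : Subgroup ↥(HL cs h X (one i))) := by
        have := hp.isNilpotent
        infer_instance
      have h5 : Group.IsSolvable ↥(HL cs h X (one i)) :=
        Group.isSolvable_of_surjective (f := (Subgroup.topEquiv (G := ↥(HL cs h X (one i)))).toMonoidHom)
          Subgroup.topEquiv.surjective
      have hne : Nontrivial ↥(HL cs h X (one i)) := by
        have := hqs.2.toNontrivial
        exact (QuotientGroup.mk'_surjective (Subgroup.center ↥(HL cs h X (one i)))).nontrivial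
      have h6 := Group.IsSolvable.commutator_lt_top_of_nontrivial ↥(HL cs h X (one i))
      rw [hperf] at h6
      exact lt_irrefl _ h6
    · -- central 2-subgroup inside a group of odd order
      have h4 : pCore 2 ↥(HL cs h X (one i)) ≤ T.subgroupOf (HL cs h X (one i)) := h3.trans hcen
      have h5 : (Nat.card ↥(T.subgroupOf (HL cs h X (one i)))).Coprime 2 := hR.tcop
      obtain ⟨k, hk⟩ := (IsPGroup.iff_card.1 hp)
      have h6 := Subgroup.card_dvd_of_le h4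
      rw [hk] at h6
      have h7 : (2 ^ k).Coprime 2 := Nat.Coprime.coprime_dvd_left h6 h5
      have h8 : k = 0 := by
        by_contra h9
        obtain ⟨m, rfl⟩ := Nat.exists_eq_succ_of_ne_zero h9
        rw [Nat.succ_eq_add_one, pow_succ] at h7
        exact absurd (Nat.Coprime.coprime_mul_left h7) (by decide)
      rw [h8, pow_zero] at hk
      exact Subgroup.card_eq_one.1 hk
  rw [HL_one] at hqs hcore
  exact ⟨hqs, hcore⟩

/-- **the data of the node `i`** -/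
theorem nodeD_qs [Finite W] [Finite Y] (R : RGD cs h 2 T n X) (hT : Group.IsSolvable T) (i : I)
    (hn : n i ∈ X (sr i) ⊔ X (-sr i))
    (h1 : X (sr i) ≤ ⁅X (sr i) ⊔ X (-sr i), X (sr i) ⊔ X (-sr i)⁆)
    (h2 : X (-sr i) ≤ ⁅X (sr i) ⊔ X (-sr i), X (sr i) ⊔ X (-sr i)⁆) :
    NodeD cs h T X {i} (X (sr i) ⊔ X (-sr i)) := by
  obtain ⟨hqs, hcore⟩ := isQuasisimple_node R hT i hn h1 h2
  refine ⟨?_, hqs, hcore, T, hT, T_le_LJ, ?_, ?_⟩
  · rw [Sup_single]
  · intro t ht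
    rw [mem_normalizer_iff_cj, cj_sup, R.tor _ (isRoot_sr cs h i) t ht, R.tor _ (isRoot_sr cs h i).neg t ht]
  · rw [← Sup_single (cs := cs) (h := h)]
    exact le_rfl

section tight

/-- every member of `ℒ(G, T)` contains `T` -/
def RowT (G : Type u) [Group G] : Prop := ∀ (S : Sylow 2 G), ∀ L ∈ calL (S : Subgroup G), (S : Subgroup G) ≤ L

/-- transport along an isomorphism -/
theorem RowT.congr {G : Type u} {K : Type v} [Group G] [Group K] [Finite G] (e : G ≃* K) (hK : RowT K) :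
    RowT G := by
  intro S L hL x hx
  have h1 : L.map e.toMonoidHom ∈ calL ((H4.LfTrans.mapSylow e S : Subgroup K)) := by
    rw [H4.LfTrans.coe_mapSylow]
    exact H4.LfTrans.map_mem_calL e hL
  have h2 : e x ∈ L.map e.toMonoidHom := hK _ _ h1 (by rw [H4.LfTrans.coe_mapSylow]; exact ⟨x, hx, rfl⟩)
  obtain ⟨y, hy, he⟩ := h2
  exact e.injective he ▸ hy

/-- one Sylow subgroup suffices -/
theorem RowT.of_one {G : Type u} [Group G] [Finite G] (S₀ : Sylow 2 G)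
    (h : ∀ L ∈ calL (S₀ : Subgroup G), (S₀ : Subgroup G) ≤ L) : RowT G := by
  intro S L hL x hx
  obtain ⟨g, hg⟩ := H4.LfTrans.exists_conj S S₀
  have h1 : L.map (MulAut.conj g).toMonoidHom ∈ calL (S₀ : Subgroup G) := by
    rw [hg]
    exact H4.LfTrans.map_mem_calL (MulAut.conj g) hL
  have h2 : MulAut.conj g x ∈ L.map (MulAut.conj g).toMonoidHom := h _ h1 (by rw [hg]; exact ⟨x, hx, rfl⟩)
  obtain ⟨y, hy, he⟩ := h2
  exact (MulAut.conj g).injective he ▸ hy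

variable {F : (I → ℤ) → ℝ → Subgroup Y} {R : RGD cs h 2 T n X}

/-- a perfect overgroup of `U` in every nonsolvable `⟨U, L_J⟩` -/
def PerfJ (cs : CoxeterSystem M W) (h : IsCartan M A) (T : Subgroup Y) (X : (I → ℤ) → Subgroup Y) (J : Set I) : Prop :=
  Group.IsSolvable ↥(LJ cs h T X J) ∨ ∃ D : Subgroup Y, RGD.Sup X (RGD.Pos cs h) ≤ D ∧
    D ≤ RGD.Sup X (RGD.Pos cs h) ⊔ RGD.Sup X (RootsJ cs h J) ∧ ⁅D, D⁆ = D

theorem le_of_calL [Finite W] [Finite Y] (hF : Filt R F) (hG : Nodes.RGDLib.G1 cs h X = ⊤)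
    (hP : ∀ J : Set I, J ≠ Set.univ → PerfJ cs h T X J) {L : Subgroup Y}
    (hL : L ∈ calL (RGD.Sup X (RGD.Pos cs h)))
    (hLn : L ⊔ RGD.Sup X (RGD.Pos cs h) ≤ Subgroup.normalizer (L : Set Y)) :
    RGD.Sup X (RGD.Pos cs h) ≤ L := by
  have h2p : Fact (Nat.Prime 2) := ⟨Nat.prime_two⟩
  set U := RGD.Sup X (RGD.Pos cs h) with hU
  obtain ⟨hJ, hHP⟩ := le_PJ_of_core hF hG (H := L ⊔ U) le_sup_right hL.2.2
  set J := JH X (L ⊔ U) with hJdef
  have hVs : Group.IsSolvable (VJ cs h X J) := by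
    have := (VJ_isPGroup R J).isNilpotent
    infer_instance
  rcases hP J hJ with hs | ⟨D, hUD, hDJ, hD⟩
  · exfalso
    have h1 : Group.IsSolvable ↥(PJ cs h T X J) := isSolvable_sup hs hVs (LJ_le_normalizer_VJ R J)
    refine Tight.not_solvable_of_calL hL ?_
    exact Group.isSolvable_of_isSolvable_injective (f := Subgroup.inclusion hHP) (Subgroup.inclusion_injective hHP)
  · have hDH : D ≤ L ⊔ U := hDJ.trans (sup_le le_sup_right (rootsJ_le R le_sup_right))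
    have hn : (L.subgroupOf (L ⊔ U)).Normal := Subgroup.normal_subgroupOf_iff_le_normalizer le_sup_left |>.2 hLn
    have hq : Group.IsSolvable (↥(L ⊔ U) ⧸ L.subgroupOf (L ⊔ U)) := by
      have hUs : Group.IsSolvable U := by
        have := (R.isPGroup_Upos).isNilpotent
        infer_instance
      let g : ↥U →* ↥(L ⊔ U) ⧸ L.subgroupOf (L ⊔ U) :=
        (QuotientGroup.mk' _).comp (Subgroup.inclusion le_sup_right)
      refine Group.isSolvable_of_surjective (f := g) ?_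
      intro y
      obtain ⟨⟨x, hx⟩, rfl⟩ := QuotientGroup.mk'_surjective _ y
      have h1 : x ∈ ((U ⊔ L : Subgroup Y) : Set Y) := by rw [sup_comm]; exact hx
      rw [Subgroup.coe_mul_of_left_le_normalizer_right _ _ (le_sup_right.trans hLn), Set.mem_mul] at h1
      obtain ⟨u, hu, l, hl, rfl⟩ := h1
      refine ⟨⟨u, hu⟩, ?_⟩
      change QuotientGroup.mk' _ (⟨u, _⟩ : ↥(L ⊔ U)) = QuotientGroup.mk' _ (⟨u * l, hx⟩ : ↥(L ⊔ U))
      rw [QuotientGroup.mk'_eq_mk']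
      exact ⟨⟨l, Subgroup.mem_sup_left hl⟩, Subgroup.mem_subgroupOf.2 hl, rfl⟩
    have hDp : ⁅D.subgroupOf (L ⊔ U), D.subgroupOf (L ⊔ U)⁆ = D.subgroupOf (L ⊔ U) := by
      apply Subgroup.map_injective (L ⊔ U).subtype_injective
      rw [Subgroup.map_commutator, Subgroup.subgroupOf_map_subtype, inf_eq_left.2 hDH, hD]
    have h1 := Tight.le_of_perfect_of_quot (L.subgroupOf (L ⊔ U)) hDp
    intro x hx
    exact Subgroup.mem_subgroupOf.1 (h1 (show (⟨x, hDH (hUD hx)⟩ : ↥(L ⊔ U)) ∈ D.subgroupOf (L ⊔ U) from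
      Subgroup.mem_subgroupOf.2 (hUD hx)))

/-- `D i = ⟨U, X_{-i}⟩` is perfect -/
def PerfNode (cs : CoxeterSystem M W) (h : IsCartan M A) (X : (I → ℤ) → Subgroup Y) (i : I) : Prop :=
  RGD.Sup X (RGD.Pos cs h) ≤ ⁅RGD.Sup X (RGD.Pos cs h) ⊔ X (-sr i), RGD.Sup X (RGD.Pos cs h) ⊔ X (-sr i)⁆ ∧
    X (-sr i) ≤ ⁅RGD.Sup X (RGD.Pos cs h) ⊔ X (-sr i), RGD.Sup X (RGD.Pos cs h) ⊔ X (-sr i)⁆

theorem perfJ_of_mem {J : Set I} {i : I} (hi : i ∈ J) (h1 : PerfNode cs h X i) : PerfJ cs h T X J := by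
  refine Or.inr ⟨RGD.Sup X (RGD.Pos cs h) ⊔ X (-sr i), le_sup_left, sup_le_sup_left ?_ _, ?_⟩
  · exact RGD.le_Sup (RootsJ.neg (PosJ_subset _ (sr_mem_PosJ hi)))
  · exact le_antisymm (Subgroup.commutator_le_self _) (sup_le h1.1 h1.2)

theorem perfJ_of_nodes (hT : Group.IsSolvable T) (h1 : ∀ i, PerfNode cs h X i) (J : Set I) : PerfJ cs h T X J := by
  rcases Set.eq_empty_or_nonempty J with rfl | ⟨i, hi⟩
  · left
    rw [LJ_empty]
    exact hT
  · exact perfJ_of_mem hi (h1 i)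

/-- **The tight row.** -/
theorem rowT_of_rgd {Y : Type v} [Group Y] {T : Subgroup Y} {n : I → Y} {X : (I → ℤ) → Subgroup Y}
    {R : RGD cs h 2 T n X} {F : (I → ℤ) → ℝ → Subgroup Y} [Finite W] [Finite Y] (hF : Filt R F)
    (hG : Nodes.RGDLib.G1 cs h X = ⊤) {ι : Type*} {Q : ι → Type w} [∀ i, Group (Q i)] (hL : RowL Q Y)
    (hP : ∀ J : Set I, J ≠ Set.univ → PerfJ cs h T X J) : RowT Y := by
  have h2p : Fact (Nat.Prime 2) := ⟨Nat.prime_two⟩
  obtain ⟨S, hS⟩ := exists_sylow R (GG_eq_top hG)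
  refine RowT.of_one S fun L h1 => ?_
  have h2 := (hL S L h1).1
  rw [hS] at h1 h2 ⊢
  exact le_of_calL hF hG hP h1 (sup_le Subgroup.le_normalizer h2)

end tight

end Cfsg.Agent.H1.QsNode
end
end
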